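import Mathlib
import Cfsg.Agent.Lib.Forms.Reflection
import Cfsg.Agent.Lib.TransvClass.Basic

/-!
The orthogonal transvections over `ZMod 2` form a class of 3-transpositions.
-/

set_option autoImplicit false

namespace Cfsg.Agent.Lib.TransvClass

open QuadraticMap Forms Matrix

variable {ι : Type} [Fintype ι] [DecidableEq ι] {Q : QuadraticForm (ZMod 2) (ι → ZMod 2)}

/-- The matrix of an isometry, as a homomorphism. -/
abbrev isoMat (Q : QuadraticForm (ZMod 2) (ι → ZMod 2)) :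
    Cfsg.isometryGroup (ZMod 2) ⇑Q →* Matrix ι ι (ZMod 2) :=
  (Units.coeHom (Matrix ι ι (ZMod 2))).comp (Cfsg.isometryGroup (ZMod 2) ⇑Q).subtype

theorem two_cases : ∀ a : ZMod 2, a = 0 ∨ a = 1 := by decide

theorem iso_ext {g h : Cfsg.isometryGroup (ZMod 2) ⇑Q} (e : ∀ x, isoMat Q g *ᵥ x = isoMat Q h *ᵥ x) : g = h :=
  Subtype.ext (Units.ext (Matrix.ext_iff_mulVec.mpr e))

theorem isoMat_preserves (g : Cfsg.isometryGroup (ZMod 2) ⇑Q) (x : ι → ZMod 2) :
    Q (isoMat Q g *ᵥ x) = Q x := g.2 x x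

theorem polar_isoMat (g : Cfsg.isometryGroup (ZMod 2) ⇑Q) (x y : ι → ZMod 2) :
    polar Q (isoMat Q g *ᵥ x) (isoMat Q g *ᵥ y) = polar Q x y := by
  simp only [QuadraticMap.polar]
  rw [← Matrix.mulVec_add, isoMat_preserves g, isoMat_preserves g, isoMat_preserves g]

theorem isoMat_inv_mulVec (g : Cfsg.isometryGroup (ZMod 2) ⇑Q) (x : ι → ZMod 2) :
    isoMat Q g *ᵥ (isoMat Q g⁻¹ *ᵥ x) = x := by
  rw [mulVec_mulVec, ← map_mul, mul_inv_cancel, map_one, one_mulVec]

/-- The orthogonal transvections. -/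
def IsTv (g : Cfsg.isometryGroup (ZMod 2) ⇑Q) (v : ι → ZMod 2) : Prop :=
  Q v = 1 ∧ ∀ x, isoMat Q g *ᵥ x = x + polar Q v x • v

theorem exists_isTv {v : ι → ZMod 2} (hv : Q v = 1) : ∃ g, IsTv (Q := Q) g v := by
  have hv0 : Q v ≠ 0 := by rw [hv]; exact one_ne_zero
  refine ⟨isoMk (reflEquiv Q hv0) (reflEquiv_preserves hv0), hv, fun x => ?_⟩
  refine (isoMk_mulVec (Q := ⇑Q) (reflEquiv Q hv0) (reflEquiv_preserves hv0) x).trans ?_
  rw [reflEquiv_apply, hv, inv_one, one_mul, sub_eq_add_neg, ← neg_smul, ZMod.neg_eq_self_mod_two]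

variable (hQ : (QuadraticMap.polarBilin Q).Nondegenerate)
include hQ

theorem exists_polar_one {v : ι → ZMod 2} (hv : v ≠ 0) : ∃ x, polar Q v x = 1 := by
  by_contra hne
  push Not at hne
  exact hv (hQ.1 v fun x => (two_cases (polar Q v x)).resolve_right (hne x))

theorem isTv_rank {g : Cfsg.isometryGroup (ZMod 2) ⇑Q} {v : ι → ZMod 2} (h : IsTv g v) :
    (isoMat Q g - 1).rank = 1 := by
  have hv : v ≠ 0 := fun e => by
    have := h.1
    rw [e, map_zero] at this
    exact zero_ne_one this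
  obtain ⟨x, hx⟩ := exists_polar_one hQ hv
  exact rank_sub_one_eq hv _ h.2 ⟨x, by rw [hx]; exact one_ne_zero⟩

theorem rank_isTv {g : Cfsg.isometryGroup (ZMod 2) ⇑Q} (h : (isoMat Q g - 1).rank = 1) :
    ∃ v, IsTv g v := by
  obtain ⟨v, hv, hline, y, hy⟩ := exists_line h
  have hy' : isoMat Q g *ᵥ y = y + v := by
    obtain ⟨c, hc⟩ := hline y
    rcases two_cases c with rfl | rfl
    · exact absurd (by rw [hc, zero_smul, add_zero]) hy
    · rwa [one_smul] at hc
  have hyv : polar Q v y = Q v := by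
    have e := isoMat_preserves g y
    rw [hy', QuadraticMap.map_add ⇑Q, add_assoc, add_eq_left, polar_comm] at e
    exact (CharTwo.add_eq_zero.1 e).symm
  -- fixed vectors are orthogonal to `v`
  have hfix : ∀ x, isoMat Q g *ᵥ x = x → polar Q v x = 0 := by
    intro x hx
    have e := polar_isoMat g y x
    rwa [hy', hx, polar_add_left, add_eq_left] at e
  obtain ⟨z, hz⟩ := exists_polar_one hQ hv
  have hzv : isoMat Q g *ᵥ z = z + v := by
    obtain ⟨c, hc⟩ := hline z
    rcases two_cases c with rfl | rfl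
    · rw [hfix z (by simpa using hc)] at hz; exact absurd hz zero_ne_one
    · rwa [one_smul] at hc
  have hQv : Q v = 1 := by
    have e := isoMat_preserves g z
    rw [hzv, QuadraticMap.map_add ⇑Q, add_assoc, add_eq_left, polar_comm, hz] at e
    exact CharTwo.add_eq_zero.1 e
  refine ⟨v, hQv, fun x => ?_⟩
  obtain ⟨c, hc⟩ := hline x
  rcases two_cases c with rfl | rfl
  · rw [hc, hfix x (by simpa using hc)]
  · rw [one_smul] at hc
    have e := isoMat_preserves g x
    rw [hc, QuadraticMap.map_add ⇑Q, add_assoc, add_eq_left, polar_comm, hQv] at e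
    rw [hc, (CharTwo.add_eq_zero.1 e).symm, one_smul]

omit hQ in
theorem IsTv.unique {g h : Cfsg.isometryGroup (ZMod 2) ⇑Q} {v : ι → ZMod 2} (hg : IsTv g v) (hh : IsTv h v) :
    g = h := iso_ext fun x => by rw [hg.2, hh.2]

omit hQ in
theorem IsTv.conj {g c : Cfsg.isometryGroup (ZMod 2) ⇑Q} {v : ι → ZMod 2} (h : IsTv g v) :
    IsTv (c * g * c⁻¹) (isoMat Q c *ᵥ v) := by
  refine ⟨(isoMat_preserves c v).trans h.1, fun x => ?_⟩
  rw [map_mul, map_mul, ← mulVec_mulVec, ← mulVec_mulVec, h.2, mulVec_add, mulVec_smul, isoMat_inv_mulVec]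
  congr 2
  rw [← polar_isoMat c v, isoMat_inv_mulVec]

omit hQ in
theorem IsTv.sq {g : Cfsg.isometryGroup (ZMod 2) ⇑Q} {v : ι → ZMod 2} (h : IsTv g v) : g * g = 1 := by
  refine iso_ext fun x => ?_
  have h2 : polar Q v v = 0 := by
    rw [polar_self, h.1]
    decide
  rw [map_mul, ← mulVec_mulVec, h.2, h.2 x, polar_add_right, polar_smul_right, h2, smul_zero, add_zero,
    add_assoc, ← add_smul, CharTwo.add_self_eq_zero, zero_smul, add_zero, map_one, one_mulVec]

omit hQ in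
theorem IsTv.rel {g h : Cfsg.isometryGroup (ZMod 2) ⇑Q} {u v : ι → ZMod 2} (hg : IsTv g u) (hh : IsTv h v) :
    g * h = h * g ∨ g * h * g = h * g * h := by
  have hi : g⁻¹ = g := inv_eq_of_mul_eq_one_left hg.sq
  have hi' : h⁻¹ = h := inv_eq_of_mul_eq_one_left hh.sq
  have e1 := IsTv.conj (c := g) hh
  have e2 := IsTv.conj (c := h) hg
  rw [hg.2 v] at e1
  rw [hh.2 u, polar_comm] at e2
  rcases two_cases (polar Q u v) with h0 | h1
  · refine Or.inl ?_
    rw [h0, zero_smul, add_zero] at e1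
    have e := e1.unique hh
    calc g * h = g * h * g⁻¹ * g := by rw [inv_mul_cancel_right]
      _ = h * g := by rw [e]
  · refine Or.inr ?_
    rw [h1, one_smul] at e1 e2
    rw [add_comm] at e2
    calc g * h * g = g * h * g⁻¹ := by rw [hi]
      _ = h * g * h⁻¹ := e1.unique e2
      _ = h * g * h := by rw [hi']

theorem isConj_of_isTv {g h : Cfsg.isometryGroup (ZMod 2) ⇑Q} {u v : ι → ZMod 2} (hg : IsTv g u) (hh : IsTv h v) :
    IsConj g h := by
  have hne : ∀ w : ι → ZMod 2, Q w = 1 → LinearIndependent (ZMod 2) (fun _ : Fin 1 => w) := fun w hw =>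
    LinearIndependent.of_subsingleton (0 : Fin 1) fun e => by rw [e, map_zero] at hw; exact zero_ne_one hw
  obtain ⟨e, he, hev⟩ := witt_family_quad hQ (fun _ : Fin 1 => u) (fun _ : Fin 1 => v) (hne u hg.1) (hne v hh.1)
    (fun _ => hg.1.trans hh.1.symm) (fun _ _ => by rw [polar_self, polar_self, hg.1, hh.1])
  refine isConj_iff.2 ⟨isoMk e he, ?_⟩
  have hc := IsTv.conj (c := isoMk e he) hg
  have e1 : isoMat Q (isoMk e he) *ᵥ u = v := (isoMk_mulVec e he u).trans (hev 0)
  rw [e1] at hc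
  exact hc.unique hh

/-- The elements `g` with `g - 1` of rank one form a class of 3-transpositions. -/
theorem isClass_orthTwo (hcard : Fintype.card ι ≠ 4) (hex : ∃ v, Q v = 1) :
    Cfsg.IsThreeTranspositionClass {g : Cfsg.isometryGroup (ZMod 2) ⇑Q | (isoMat Q g - 1).rank = 1} := by
  refine isThreeTranspositionClass ?_ ?_ ?_ ?_ ?_ ?_ ?_
  · obtain ⟨v, hv⟩ := hex
    obtain ⟨g, hg⟩ := exists_isTv hv
    exact ⟨g, isTv_rank hQ hg⟩
  · intro h
    simp only [Set.mem_setOf_eq, map_one, sub_self, Matrix.rank_zero] at h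
    exact zero_ne_one h
  · intro d hd
    obtain ⟨v, hv⟩ := rank_isTv hQ hd
    exact hv.sq
  · intro d hd e he
    obtain ⟨u, hu⟩ := rank_isTv hQ hd
    obtain ⟨v, hv⟩ := rank_isTv hQ he
    exact hu.rel hv
  · intro d hd e he
    obtain ⟨u, hu⟩ := rank_isTv hQ hd
    obtain ⟨v, hv⟩ := rank_isTv hQ he
    exact isConj_of_isTv hQ hu hv
  · intro g d hd
    exact (rank_sub_one_conj (isoMat Q) g d).trans hd
  · rw [eq_top_iff, ← closure_reflectionMatrix_eq_top Q hQ (Or.inr hcard)]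
    refine Subgroup.closure_mono ?_
    rintro g ⟨v, hv, hg⟩
    have hv1 := (two_cases (Q v)).resolve_left hv
    refine isTv_rank hQ (v := v) ⟨hv1, fun x => ?_⟩
    show ((g : Matrix.GeneralLinearGroup ι (ZMod 2)) : Matrix ι ι (ZMod 2)) *ᵥ x = _
    rw [hg, reflectionMatrix_mulVec, hv1, inv_one, one_mul, sub_eq_add_neg, ← neg_smul,
      ZMod.neg_eq_self_mod_two]

/-- The same for a function equal to the quadratic form. -/
theorem isClass_orthTwo_fun {f : (ι → ZMod 2) → ZMod 2} (hf : ⇑Q = f) (hcard : Fintype.card ι ≠ 4)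
    (hex : ∃ v, f v = 1) :
    Cfsg.IsThreeTranspositionClass {g : Cfsg.isometryGroup (ZMod 2) f |
      (((g : Matrix.GeneralLinearGroup ι (ZMod 2)) : Matrix ι ι (ZMod 2)) - 1).rank = 1} := by
  subst hf
  exact isClass_orthTwo hQ hcard hex

end Cfsg.Agent.Lib.TransvClass
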